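import Groth.Agent.FEtLib.Galois
import Groth.Agent.FEtLib.Quot

/-!
# The quotient of a Galois cover by a Sylow subgroup
-/

set_option autoImplicit false
set_option backward.isDefEq.respectTransparency false
set_option backward.isDefEq.respectTransparency.types false
set_option linter.style.haveILetI false

universe u

open CategoryTheory CategoryTheory.Limits AlgebraicGeometry Opposite MorphismProperty

noncomputable section

namespace Groth.Agent.SylowFiltLib

open FEtLib PreGaloisCategory

variable {S : Scheme.{u}}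

/-- A connected scheme gives a connected object. -/
theorem isConnected_of_connectedSpace (Y : FEt.Cat S) [ConnectedSpace Y.left] : IsConnected Y where
  notInitial h := by
    obtain ⟨y⟩ := (inferInstance : Nonempty Y.left)
    exact IsEmpty.false (α := (∅ : Scheme.{u})) ((h.to (empty S)).left y)
  noTrivialComponent W i hi hW := by
    haveI := hi
    have hne : Nonempty W.left := not_isEmpty_iff.1 fun he => hW <| by
      haveI := he
      exact IsInitial.ofUniqueHom (fun Z => MorphismProperty.Over.homMk (isInitialOfIsEmpty.to Z.left) (isInitialOfIsEmpty.hom_ext _ _) trivial)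
        fun Z f => by ext; exact isInitialOfIsEmpty.hom_ext _ _
    have hclo : IsClopen (Set.range i.left) :=
      ⟨i.left.isClosedEmbedding.isClosed_range, i.left.isOpenMap.isOpen_range⟩
    haveI : Surjective i.left := ⟨Set.range_eq_univ.1 (hclo.eq_univ (Set.range_nonempty _))⟩
    haveI : IsIso i.left := (isIso_iff_isOpenImmersion_and_surjective i.left).2 ⟨inferInstance, inferInstance⟩
    exact isIso_of_isIso_left i

/-- A connected object is a connected scheme. -/
theorem connectedSpace_of_isConnected (Y : FEt.Cat S) [IsConnected Y] : ConnectedSpace Y.left := by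
  have hne : Nonempty Y.left := not_isEmpty_iff.1 fun he => IsConnected.notInitial (X := Y) <| by
    haveI := he
    exact IsInitial.ofUniqueHom (fun Z => MorphismProperty.Over.homMk (isInitialOfIsEmpty.to Z.left) (isInitialOfIsEmpty.hom_ext _ _) trivial)
      fun Z f => by ext; exact isInitialOfIsEmpty.hom_ext _ _
  refine connectedSpace_iff_clopen.2 ⟨hne, fun V hV => ?_⟩
  rcases V.eq_empty_or_nonempty with h | ⟨y, hy⟩
  · exact Or.inl h
  refine Or.inr ?_
  let U : Y.left.Opens := ⟨V, hV.2⟩
  haveI : IsIso (clopenPartι Y U hV.1) :=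
    IsConnected.noTrivialComponent (clopenPart Y U hV.1) (clopenPartι Y U hV.1) fun h =>
      IsEmpty.false (α := (∅ : Scheme.{u})) ((h.to (empty S)).left ⟨y, hy⟩)
  haveI : IsIso (clopenPartι Y U hV.1).left := inferInstanceAs (IsIso ((Over.forget FEt.prop.{u} ⊤ S ⋙ CategoryTheory.Over.forget S).map (clopenPartι Y U hV.1)))
  refine Set.eq_univ_of_forall fun z => ?_
  obtain ⟨w, hw⟩ := (Scheme.Hom.homeomorph (clopenPartι Y U hV.1).left).surjective z
  exact hw ▸ w.2

/-- A Galois cover by which a given cover is split, and its quotient by a Sylow subgroup. -/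
structure Data (S : Scheme.{u}) (ℓ : ℕ) (U : FEt.Cat S) (K : Type u) [Field K]
    (ξ : Spec (CommRingCat.of K) ⟶ S) where
  A : FEt.Cat S
  T : FEt.Cat S
  q : A ⟶ T
  P : Subgroup (Aut A)
  a : Fib ξ A
  finite : Finite P
  pgroup : IsPGroup ℓ P
  quot : IsGeomQuot P.subtype q
  connA : ConnectedSpace A.left
  coprime : ℓ.Coprime (Nat.card (Fib ξ T))
  split : Function.Surjective fun f : A ⟶ U => pmap f a

theorem nonempty_data [ConnectedSpace S] (ℓ : ℕ) [hℓ : Fact ℓ.Prime] (U : FEt.Cat S) (K : Type u) [Field K]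
    [IsAlgClosed K] (ξ : Spec (CommRingCat.of K) ⟶ S) : Nonempty (Data S ℓ U K ξ) := by
  haveI : GaloisCategory (FEt.Cat S) := galoisCategory ξ
  obtain ⟨A, a, hA, hbij⟩ := exists_galois_representative (fibF ξ) U
  haveI : Finite (Aut A) := Finite.of_injective _ (evaluation_aut_injective_of_isConnected (fibF ξ) A a)
  obtain ⟨P⟩ := (inferInstance : Nonempty (Sylow ℓ (Aut A)))
  haveI hfin : Finite (P : Subgroup (Aut A)) := inferInstance
  obtain ⟨T, q, hq⟩ := exists_isGeomQuot (P : Subgroup (Aut A)).subtype
  haveI : Finite (Fib ξ T) := finite_fib ξ T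
  refine ⟨⟨A, T, q, P, a, hfin, P.2, hq, connectedSpace_of_isConnected A, ?_, hbij.2⟩⟩
  let σ : Fib ξ T → Fib ξ A := fun t => (hq.surj K ξ t).choose
  have hσ : ∀ t, pmap q (σ t) = t := fun t => (hq.surj K ξ t).choose_spec
  have hb : Function.Bijective fun p : Fib ξ T × (P : Subgroup (Aut A)) => pmap p.2.1.hom (σ p.1) := by
    refine ⟨fun p p' h => ?_, fun b => ?_⟩
    · have ht : p.1 = p'.1 := by
        have h1 : ∀ x : Fib ξ T × (P : Subgroup (Aut A)), pmap q (pmap x.2.1.hom (σ x.1)) = x.1 := fun x => by
          rw [← pmap_comp, show x.2.1.hom ≫ q = q from hq.inv x.2, hσ]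
        rw [← h1 p, ← h1 p']
        exact congrArg (pmap q) h
      refine Prod.ext ht (Subtype.ext (evaluation_aut_injective_of_isConnected (fibF ξ) A (σ p'.1) ?_))
      simp only at h ⊢
      rw [ht] at h
      exact h
    · obtain ⟨g, hg⟩ := hq.trans K ξ (σ (pmap q b)) b (hσ _)
      exact ⟨(pmap q b, g), hg⟩
  have hA' : Nat.card (Fib ξ A) = Nat.card (Aut A) :=
    (Nat.card_eq_of_bijective _ (evaluation_aut_bijective_of_isGalois (fibF ξ) A a)).symm
  have hc : Nat.card (Aut A) = Nat.card (Fib ξ T) * Nat.card (P : Subgroup (Aut A)) := by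
    rw [← Nat.card_prod, Nat.card_eq_of_bijective _ hb, hA']
  have hidx : Nat.card (Fib ξ T) = (P : Subgroup (Aut A)).index :=
    Nat.eq_of_mul_eq_mul_right Nat.card_pos (hc.symm.trans (Subgroup.index_mul_card _).symm)
  rw [hidx]
  exact (Nat.Prime.coprime_iff_not_dvd hℓ.out).2 (P.not_dvd_index)

variable {ℓ : ℕ} {U : FEt.Cat S} {K : Type u} [Field K] {ξ : Spec (CommRingCat.of K) ⟶ S}

theorem Data.surjective_q (D : Data S ℓ U K ξ) : Surjective D.q.left :=
  surjective_of_pmap D.q fun _ _ _ η => D.quot.surj _ η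

theorem Data.connectedSpace_T (D : Data S ℓ U K ξ) : ConnectedSpace D.T.left := by
  haveI := D.connA
  haveI := D.surjective_q
  exact D.q.left.surjective.connectedSpace D.q.left.continuous

end Groth.Agent.SylowFiltLib
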