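import Groth.Agent.SylowFiltLib.Chain
import Groth.Agent.SylowFiltLib.Galois
import Groth.Agent.FLCLib.Ops
import Groth.Agent.FLCLib.Gen
import Groth.Agent.FLCLib.Hom
import Groth.Agent.EtPtsLib.GermEq
import Groth.Agent.S0107
import Groth.Agent.S6645

/-!
# Descending invariant sections to the quotient by an `ℓ`-group
-/

set_option autoImplicit false
set_option backward.isDefEq.respectTransparency false
set_option backward.isDefEq.respectTransparency.types false
set_option linter.style.haveILetI false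

universe u

open CategoryTheory CategoryTheory.Limits AlgebraicGeometry Opposite MorphismProperty

noncomputable section

namespace Groth.Agent.SylowFiltLib

open FEtLib EtPtsLib PreGaloisCategory

section Rep

/-- A representation of the sheaf of sets underlying an abelian sheaf. -/
structure Rep {X : Scheme.{u}} (G : EtCoh.Ab X) where
  U : X.Etale
  finite : IsFinite U.hom
  equiv : ∀ W : X.Etale, EtCoh.sect G W ≃ (W ⟶ U)
  natural : ∀ {W V : X.Etale} (g : V ⟶ W) (s : EtCoh.sect G W), equiv V (G.obj.map g.op s) = g ≫ equiv W s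

theorem nonempty_rep {X : Scheme.{u}} (G : EtCoh.Ab X) (hG : EtCoh.IsFiniteLocallyConstant G) : Nonempty (Rep G) := by
  obtain ⟨U, hU, ⟨e⟩⟩ := S0107.result G hG
  exact ⟨⟨U, hU, fun W => (e.app (op W)).toEquiv.trans Equiv.ulift, fun g s => congrArg ULift.down
    (ConcreteCategory.congr_hom (e.hom.naturality g.op) s)⟩⟩

theorem Rep.map_symm {X : Scheme.{u}} {G : EtCoh.Ab X} (R : Rep G) {W V : X.Etale} (g : V ⟶ W) (h : W ⟶ R.U) :
    G.obj.map g.op ((R.equiv W).symm h) = (R.equiv V).symm (g ≫ h) := by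
  apply (R.equiv V).injective
  rw [R.natural, Equiv.apply_symm_apply, Equiv.apply_symm_apply]

/-- Every element of a stalk is the germ of the universal section at some lift of the geometric point. -/
theorem Rep.exists_germ {X : Scheme.{u}} {G : EtCoh.Ab X} (R : Rep G) {Ω : Type u} [Field Ω] [IsSepClosed Ω]
    (ξ : Spec (CommRingCat.of Ω) ⟶ X) (z : (EtCoh.stalk ξ).obj G) :
    ∃ b : (Scheme.pointSmallEtale ξ).fiber.obj R.U, germ ξ G b ((R.equiv R.U).symm (𝟙 R.U)) = z := by
  obtain ⟨V, y, s, rfl⟩ := (Scheme.pointSmallEtale ξ).toPresheafFiber_jointly_surjective z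
  refine ⟨(Scheme.pointSmallEtale ξ).fiber.map (R.equiv V s) y, ?_⟩
  rw [← germ_map, R.map_symm, Category.comp_id, Equiv.symm_apply_apply]
  rfl

end Rep

/-- Constant sheaves with finite value are finite locally constant. -/
theorem isFiniteLocallyConstant_const (X : Scheme.{u}) (M : Type) [AddCommGroup M] [Finite M] :
    EtCoh.IsFiniteLocallyConstant (EtCoh.const X M) :=
  (FLCLib.finiteLocallyConstant_iff _).2 fun x =>
    ⟨EtCoh.top X, AddCommGrpCat.of (ULift.{u + 1} M), cst _ _, ⟨x, rfl⟩,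
      (inferInstance : Finite (ULift.{u + 1} M)), fun _ _ _ ξ l => germ_cst_bijective ξ _ l⟩

theorem dvd_of_eq_of_dvd {a b c : ℕ} (e : a = b) (h : b ∣ c) : a ∣ c := e ▸ h

variable {S : Scheme.{u}} {ℓ : ℕ} {U : FEt.Cat S} {K : Type u} [Field K] {ξ : Spec (CommRingCat.of K) ⟶ S}

/-- An object over the quotient, as an étale scheme over it. -/
def etOf {T Y : FEt.Cat S} (f : Y ⟶ T) : T.left.Etale := Scheme.Etale.mk f.left

/-- The total space of a finite étale scheme over the quotient, over the base. -/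
def totalObj {T : FEt.Cat S} {G : EtCoh.Ab T.left} (R : Rep G) : FEt.Cat S :=
  haveI := R.finite
  haveI : AlgebraicGeometry.Etale R.U.hom := R.U.prop
  Over.mk ⊤ (R.U.hom ≫ T.hom) ⟨inferInstance, inferInstance⟩

/-- Its structure map to the quotient. -/
def totalStr {T : FEt.Cat S} {G : EtCoh.Ab T.left} (R : Rep G) : totalObj R ⟶ T :=
  Over.homMk R.U.hom rfl trivial

/-- A section as a morphism over the base. -/
def toS {T Y : FEt.Cat S} (f : Y ⟶ T) {G : EtCoh.Ab T.left} (R : Rep G) (h : etOf f ⟶ R.U) : Y ⟶ totalObj R :=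
  Over.homMk h.left (by
    show h.left ≫ R.U.hom ≫ T.hom = Y.hom
    rw [← Category.assoc, MorphismProperty.Over.w h]
    exact MorphismProperty.Over.w f) trivial

theorem toS_injective {T Y : FEt.Cat S} (f : Y ⟶ T) {G : EtCoh.Ab T.left} (R : Rep G) :
    Function.Injective (toS f R) := fun _ _ h =>
  MorphismProperty.Over.Hom.ext (congrArg (fun m : Y ⟶ totalObj R => m.left) h)

theorem toS_str {T Y : FEt.Cat S} (f : Y ⟶ T) {G : EtCoh.Ab T.left} (R : Rep G) (h : etOf f ⟶ R.U) :
    toS f R h ≫ totalStr R = f :=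
  MorphismProperty.Over.Hom.ext (MorphismProperty.Over.w h)

variable (D : Data S ℓ U K ξ)

/-- The cover, over the quotient. -/
abbrev Data.cover : D.T.left.Etale := etOf D.q

/-- The geometric point of the quotient. -/
abbrev Data.pt : Spec (CommRingCat.of K) ⟶ D.T.left := D.a.left ≫ D.q.left

/-- The action on the cover over the quotient. -/
def Data.act (g : D.P) : D.cover ⟶ D.cover :=
  MorphismProperty.Over.homMk g.1.hom.left
    (congrArg (fun m : D.A ⟶ D.T => m.left) (D.quot.inv g))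

theorem Data.act_mul (g h : D.P) : D.act (g * h) = D.act h ≫ D.act g :=
  MorphismProperty.Over.Hom.ext rfl

theorem Data.act_one : D.act 1 = 𝟙 _ :=
  MorphismProperty.Over.Hom.ext rfl

variable [IsAlgClosed K]

/-- The distinguished lift. -/
abbrev Data.lift : (Scheme.pointSmallEtale D.pt).fiber.obj D.cover :=
  CategoryTheory.Over.homMk D.a.left rfl

/-- Every stalk element comes from a section over the cover. -/
def Data.Gen (G : EtCoh.Ab D.T.left) : Prop :=
  ∀ z : (EtCoh.stalk D.pt).obj G, ∃ s : EtCoh.sect G D.cover, germ D.pt G D.lift s = z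

variable [ConnectedSpace S]

theorem Data.finite_sect {G : EtCoh.Ab D.T.left} (R : Rep G) : Finite (EtCoh.sect G D.cover) := by
  haveI := D.connA
  haveI : GaloisCategory (FEt.Cat S) := galoisCategory ξ
  haveI : IsConnected D.A := isConnected_of_connectedSpace D.A
  haveI : Finite (Fib ξ (totalObj R)) := finite_fib ξ (totalObj R)
  exact Finite.of_injective (fun s => pmap (toS D.q R (R.equiv _ s)) D.a) fun s t h =>
    (R.equiv _).injective (toS_injective D.q R (evaluation_injective_of_isConnected (fibF ξ) D.A (totalObj R) D.a h))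

theorem Data.exists_fixed [hℓ : Fact ℓ.Prime] {G : EtCoh.Ab D.T.left} (R : Rep G) (hk : EtCoh.KilledBy ℓ G)
    {s : EtCoh.sect G D.cover} (hs : s ≠ 0) :
    ∃ t : EtCoh.sect G D.cover, t ≠ 0 ∧ ∀ g : D.P, G.obj.map (D.act g).op t = t := by
  haveI := D.finite_sect R
  haveI := D.finite
  letI : MulAction D.P (EtCoh.sect G D.cover) :=
    { smul := fun g t => G.obj.map (D.act g⁻¹).op t
      one_smul := fun t => by
        show G.obj.map (D.act (1 : D.P)⁻¹).op t = t
        rw [inv_one, D.act_one]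
        simp
      mul_smul := fun g h t => by
        show G.obj.map (D.act (g * h)⁻¹).op t = G.obj.map (D.act g⁻¹).op (G.obj.map (D.act h⁻¹).op t)
        rw [FLCLib.sect_map_map, mul_inv_rev, D.act_mul] }
  have h0 : (0 : EtCoh.sect G D.cover) ∈ MulAction.fixedPoints D.P (EtCoh.sect G D.cover) :=
    fun g => map_zero (G.obj.map (D.act g⁻¹).op).hom
  have hdvd : ℓ ∣ Nat.card (EtCoh.sect G D.cover) :=
    dvd_of_eq_of_dvd (addOrderOf_eq_prime (hk _ s) hs).symm (addOrderOf_dvd_natCard s)
  obtain ⟨t, ht, ht0⟩ := D.pgroup.exists_fixed_point_of_prime_dvd_card_of_fixed_point _ hdvd h0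
  refine ⟨t, Ne.symm ht0, fun g => ?_⟩
  have h : G.obj.map (D.act g⁻¹⁻¹).op t = t := ht g⁻¹
  rwa [inv_inv] at h

theorem Data.exists_top_section {G : EtCoh.Ab D.T.left} (R : Rep G) {t : EtCoh.sect G D.cover}
    (ht : ∀ g : D.P, G.obj.map (D.act g).op t = t) :
    ∃ t₀ : EtCoh.sect G (EtCoh.top D.T.left), G.obj.map ((EtCore.topIsTerminal _).from D.cover).op t₀ = t := by
  obtain ⟨d, hd⟩ := D.quot.exists_desc (toS D.q R (R.equiv _ t)) fun g => by
    refine Eq.trans ?_ (congrArg (fun x => toS D.q R (R.equiv _ x)) (ht g))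
    refine MorphismProperty.Over.Hom.ext ?_
    show g.1.hom.left ≫ (R.equiv _ t).left = (R.equiv _ (G.obj.map (D.act g).op t)).left
    rw [R.natural]
    rfl
  haveI := D.quot.surj.epi
  have hstr : d ≫ totalStr R = 𝟙 D.T := by
    rw [← cancel_epi D.q, ← Category.assoc, hd, toS_str, Category.comp_id]
  let m : EtCoh.top D.T.left ⟶ R.U :=
    MorphismProperty.Over.homMk d.left (congrArg (fun k : D.T ⟶ D.T => k.left) hstr)
  refine ⟨(R.equiv _).symm m, ?_⟩
  rw [R.map_symm, Equiv.symm_apply_eq]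
  refine MorphismProperty.Over.Hom.ext ?_
  show ((EtCore.topIsTerminal D.T.left).from D.cover).left ≫ d.left = (R.equiv _ t).left
  have hw : ((EtCore.topIsTerminal D.T.left).from D.cover).left = D.q.left :=
    (Category.comp_id _).symm.trans (MorphismProperty.Over.w _)
  rw [hw]
  exact congrArg (fun k : D.A ⟶ totalObj R => k.left) hd

theorem Data.germ_top_ne_zero {G : EtCoh.Ab D.T.left} (R : Rep G) {t : EtCoh.sect G (EtCoh.top D.T.left)}
    (ht : t ≠ 0) {Ω : Type u} [Field Ω] [IsSepClosed Ω] (ζ : Spec (CommRingCat.of Ω) ⟶ D.T.left) :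
    germ ζ G (topLift ζ) t ≠ 0 := by
  intro h0
  rw [germ, ← map_zero ((Scheme.pointSmallEtale ζ).toPresheafFiber (EtCoh.top D.T.left) (topLift ζ) G.obj).hom] at h0
  obtain ⟨V, g, y, -, hV⟩ := ((Scheme.pointSmallEtale ζ).toPresheafFiber_eq_iff' _ _ t 0).1 h0
  have hV' : R.equiv V (G.obj.map g.op t) = R.equiv V (G.obj.map g.op 0) := congrArg (R.equiv V) hV
  rw [R.natural, R.natural] at hV'
  let m := R.equiv (EtCoh.top D.T.left) t
  let m₀ := R.equiv (EtCoh.top D.T.left) 0
  let v : V.left := liftHom ζ y default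
  let L := AlgebraicClosure (V.left.residueField v)
  let η : Spec (CommRingCat.of L) ⟶ V.left :=
    Spec.map (CommRingCat.ofHom (algebraMap (V.left.residueField v) L)) ≫ V.left.fromSpecResidueField v
  let ξ' : Spec (CommRingCat.of L) ⟶ S := (η ≫ g.left) ≫ D.T.hom
  haveI := D.connectedSpace_T
  haveI : GaloisCategory (FEt.Cat S) := galoisCategory ξ'
  haveI : IsConnected D.T := isConnected_of_connectedSpace D.T
  let b : Fib ξ' D.T := fibMk (η ≫ g.left) rfl
  have he : toS (𝟙 D.T) R m = toS (𝟙 D.T) R m₀ := by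
    refine evaluation_injective_of_isConnected (fibF ξ') D.T (totalObj R) b (fib_ext ?_)
    show (η ≫ g.left) ≫ m.left = (η ≫ g.left) ≫ m₀.left
    rw [Category.assoc, Category.assoc]
    exact congrArg (η ≫ ·) (congrArg (fun k : V ⟶ R.U => k.left) hV')
  exact ht ((R.equiv _).injective (toS_injective (𝟙 D.T) R he))

theorem Data.isZero_of_stalk {G : EtCoh.Ab D.T.left} (hG : EtCoh.IsFiniteLocallyConstant G)
    (h : IsZero ((EtCoh.stalk D.pt).obj G)) : IsZero G := by
  obtain ⟨hcl, hiff⟩ := FLCLib.flc_supp hG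
  haveI := D.connectedSpace_T
  have hne : EtPBC.supp G ≠ Set.univ := fun he => (hiff K D.pt).1 (he ▸ Set.mem_univ _) h
  have hempty : EtPBC.supp G = ∅ := (isClopen_iff.1 hcl).resolve_right hne
  refine (isZero_iff_ab G).2 fun Ω _ _ ζ => ?_
  by_contra hz
  have := (hiff Ω ζ).2 hz
  rw [hempty] at this
  exact this

theorem exists_hom_of_section {X : Scheme.{u}} {G : EtCoh.Ab X} (n : ℕ) [NeZero n]
    (hk : EtCoh.KilledBy n G) (t : EtCoh.sect G (EtCoh.top X)) :
    ∃ φ : EtCoh.const X (ZMod n) ⟶ G, ∀ c : ℕ,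
      φ.hom.app (op (EtCoh.top X)) (cst _ (EtCoh.top X) (ULift.up.{u + 1} (c : ZMod n))) = c • t := by
  let bz : ZMod n →+ EtCoh.sect G (EtCoh.top X) := ZMod.lift n ⟨zmultiplesHom _ t, by
    rw [zmultiplesHom_apply, natCast_zsmul]
    exact hk _ t⟩
  have hbz : ∀ c : ℕ, bz (c : ZMod n) = c • t := fun c => by
    rw [← Int.cast_natCast, ZMod.lift_coe]
    exact natCast_zsmul t c
  let b : AddCommGrpCat.of (ULift.{u + 1} (ZMod n)) ⟶ G.obj.obj (op (EtCoh.top X)) :=
    AddCommGrpCat.ofHom (bz.comp AddEquiv.ulift.toAddMonoidHom)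
  let A := constantSheafAdj X.smallEtaleTopology AddCommGrpCat.{u + 1} (EtCore.topIsTerminal X)
  let φ := (A.homEquiv (AddCommGrpCat.of (ULift.{u + 1} (ZMod n))) G).symm b
  refine ⟨φ, fun c => ?_⟩
  have hφ : A.homEquiv _ G φ = b := Equiv.apply_symm_apply _ _
  have hu : cst (AddCommGrpCat.of (ULift.{u + 1} (ZMod n))) (EtCoh.top X) = A.unit.app _ := by
    simp only [A, constantSheafAdj, Adjunction.comp_unit_app, cst]
    rfl
  rw [Adjunction.homEquiv_unit, ← hu] at hφ
  refine (ConcreteCategory.congr_hom hφ (ULift.up.{u + 1} (c : ZMod n))).trans ?_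
  exact hbz c

theorem Data.hasFilt [hℓ : Fact ℓ.Prime] : ∀ (k : ℕ) (G : EtCoh.Ab D.T.left), EtCoh.IsFiniteLocallyConstant G →
    EtCoh.KilledBy ℓ G → D.Gen G → Nat.card ((EtCoh.stalk D.pt).obj G) ≤ k →
    HasFilt (EtCoh.const D.T.left (ZMod ℓ)) G := by
  intro k
  induction k with
  | zero =>
    intro G hG _ hgen hk
    obtain ⟨R⟩ := nonempty_rep G hG
    haveI := D.finite_sect R
    haveI : Finite ((EtCoh.stalk D.pt).obj G) := Finite.of_surjective _ hgen
    exact absurd hk (by have := Nat.card_pos (α := (EtCoh.stalk D.pt).obj G); omega)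
  | succ k ih =>
    intro G hG hkill hgen hk
    obtain ⟨R⟩ := nonempty_rep G hG
    haveI := D.finite_sect R
    haveI : Finite ((EtCoh.stalk D.pt).obj G) := Finite.of_surjective _ hgen
    by_cases hz : IsZero ((EtCoh.stalk D.pt).obj G)
    · exact .zero G (D.isZero_of_stalk hG hz)
    rw [← FLCLib.subsingleton_iff_isZero, not_subsingleton_iff_nontrivial] at hz
    obtain ⟨z, hz0⟩ := exists_ne (0 : (EtCoh.stalk D.pt).obj G)
    obtain ⟨s, hs⟩ := hgen z
    have hs0 : s ≠ 0 := fun h => hz0 (by rw [← hs, h]; exact map_zero _)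
    obtain ⟨t, ht0, htfix⟩ := D.exists_fixed R hkill hs0
    obtain ⟨t₀, ht₀⟩ := D.exists_top_section R htfix
    have ht₀0 : t₀ ≠ 0 := fun h => ht0 (by rw [← ht₀, h]; exact map_zero _)
    obtain ⟨φ, hφ⟩ := exists_hom_of_section ℓ hkill t₀
    haveI : Mono φ := by
      refine (mono_iff_ab φ).2 fun Ω _ _ ζ => (injective_iff_map_eq_zero _).2 fun x hx => ?_
      obtain ⟨c, rfl⟩ := (germ_cst_bijective ζ _ (topLift ζ)).2 x
      rw [FLCLib.germ_app] at hx
      have hc : ULift.up.{u + 1} ((c.down.val : ℕ) : ZMod ℓ) = c := by rw [ZMod.natCast_zmod_val]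
      rw [← hc, hφ] at hx
      have hx' : c.down.val • germ ζ G (topLift ζ) t₀ = 0 :=
        (map_nsmul ((Scheme.pointSmallEtale ζ).toPresheafFiber _ (topLift ζ) G.obj).hom c.down.val t₀).symm.trans hx
      have hg : ℓ • germ ζ G (topLift ζ) t₀ = 0 :=
        (map_nsmul ((Scheme.pointSmallEtale ζ).toPresheafFiber _ (topLift ζ) G.obj).hom ℓ t₀).symm.trans
          ((congrArg _ (hkill _ t₀)).trans (map_zero _))
      have hord := addOrderOf_eq_prime hg (D.germ_top_ne_zero R ht₀0 ζ)
      have hdvd := addOrderOf_dvd_iff_nsmul_eq_zero.2 hx'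
      rw [hord] at hdvd
      have h0 : c.down.val = 0 := Nat.eq_zero_of_dvd_of_lt hdvd (ZMod.val_lt _)
      have hc0 : c = 0 := by
        rw [← hc, h0, Nat.cast_zero]
        rfl
      show germ ζ _ (topLift ζ) (cst _ _ c) = 0
      rw [hc0, map_zero]
      exact map_zero _
    have hflcC : EtCoh.IsFiniteLocallyConstant (EtCoh.const D.T.left (ZMod ℓ)) :=
      isFiniteLocallyConstant_const D.T.left (ZMod ℓ)
    have hcok := ((S6645.result D.T.left).1 _ _ φ hflcC hG).2
    have hgen' : D.Gen (cokernel φ) := fun z => by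
      obtain ⟨w, rfl⟩ := (epi_iff_ab (cokernel.π φ)).1 inferInstance K D.pt z
      obtain ⟨s, rfl⟩ := hgen w
      exact ⟨_, (FLCLib.germ_app (cokernel.π φ) D.lift s).symm⟩
    have hlt : Nat.card ((EtCoh.stalk D.pt).obj (cokernel φ)) < Nat.card ((EtCoh.stalk D.pt).obj G) := by
      have hsurj := (epi_iff_ab (cokernel.π φ)).1 inferInstance K D.pt
      refine lt_of_le_of_ne (Nat.card_le_card_of_surjective _ hsurj) fun heq => ?_
      haveI : Finite ((EtCoh.stalk D.pt).obj (cokernel φ)) := Finite.of_surjective _ hsurj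
      have hinj := ((Nat.bijective_iff_surjective_and_card _).2 ⟨hsurj, heq.symm⟩).1
      refine D.germ_top_ne_zero R ht₀0 D.pt (hinj (Eq.trans ?_ (map_zero _).symm))
      rw [FLCLib.germ_app]
      have h1 : (cokernel.π φ).hom.app (op (EtCoh.top D.T.left)) t₀ = 0 := by
        have h2 := hφ 1
        rw [one_nsmul] at h2
        rw [← h2]
        exact ConcreteCategory.congr_hom (congrArg (fun m => m.hom.app (op (EtCoh.top D.T.left))) (cokernel.condition φ)) _
      rw [h1]
      exact map_zero _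
    exact (ih (cokernel φ) hcok (FLCLib.killedBy_of_epi (cokernel.π φ) hkill) hgen' (by omega)).of_shortExact
      φ (cokernel.π φ) (cokernel.condition φ)
      { exact := ShortComplex.exact_of_g_is_cokernel _ (cokernelIsCokernel φ) }

end Groth.Agent.SylowFiltLib
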