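import Mathlib

/-!
# Filtrations with quotients isomorphic to a given object
-/

set_option autoImplicit false

universe v u

open CategoryTheory CategoryTheory.Limits

namespace Groth.Agent.SylowFiltLib

variable {C : Type u} [Category.{v} C] [Abelian C]

/-- `HasFilt A X`: `X` is built from zero by finitely many monomorphisms with cokernel `A`. -/
inductive HasFilt (A : C) : C → Prop
  | zero (X : C) (h : IsZero X) : HasFilt A X
  | step {X Y : C} (φ : X ⟶ Y) [Mono φ] (h : HasFilt A X) (e : cokernel φ ≅ A) : HasFilt A Y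

theorem HasFilt.of_shortExact {A X₁ : C} (h : HasFilt A X₁) :
    ∀ {G : C} (ι : A ⟶ G) (π : G ⟶ X₁) (w : ι ≫ π = 0), (ShortComplex.mk ι π w).ShortExact → HasFilt A G := by
  induction h with
  | zero X hX =>
    intro G ι π w hS
    haveI := hS.mono_f
    haveI : Epi ι := hS.exact.epi_f (hX.eq_of_tgt _ _)
    haveI : IsIso ι := isIso_of_mono_of_epi ι
    haveI : Mono (0 : X ⟶ G) := ⟨fun _ _ _ => hX.eq_of_tgt _ _⟩
    exact .step (0 : X ⟶ G) (.zero X hX) (cokernelZeroIsoTarget ≪≫ (asIso ι).symm)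
  | @step X Y φ _ _ e ih =>
    intro G ι π w hS
    haveI := hS.mono_f
    haveI := hS.epi_g
    have sq := IsPullback.of_hasPullback π φ
    let ι' : A ⟶ pullback π φ := pullback.lift ι 0 (by rw [w, zero_comp])
    have hι' : ι' ≫ pullback.fst π φ = ι := pullback.lift_fst _ _ _
    haveI : Mono ι' := mono_of_mono_fac hι'
    have w' : ι' ≫ pullback.snd π φ = 0 := pullback.lift_snd _ _ _
    have hex : (ShortComplex.mk ι' (pullback.snd π φ) w').ShortExact := by
      refine { exact := ShortComplex.exact_of_f_is_kernel _ (KernelFork.IsLimit.ofι' ι' w' fun k hk => ?_) }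
      have hk' : (k ≫ pullback.fst π φ) ≫ π = 0 := by
        rw [Category.assoc, pullback.condition, ← Category.assoc, hk, zero_comp]
      refine ⟨hS.exact.lift _ hk', pullback.hom_ext ?_ ?_⟩
      · rw [Category.assoc, hι']
        exact hS.exact.lift_f _ hk'
      · rw [Category.assoc, w', comp_zero, hk]
    haveI : Mono (cokernel.map (pullback.fst π φ) φ (pullback.snd π φ) π sq.w) :=
      Abelian.mono_cokernel_map_of_isPullback sq
    haveI : Epi (cokernel.map (pullback.fst π φ) φ (pullback.snd π φ) π sq.w) :=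
      epi_of_epi_fac (f := cokernel.π (pullback.fst π φ)) (h := π ≫ cokernel.π φ) (cokernel.π_desc _ _ _)
    haveI := isIso_of_mono_of_epi (cokernel.map (pullback.fst π φ) φ (pullback.snd π φ) π sq.w)
    exact .step (pullback.fst π φ) (ih ι' _ w' hex)
      (asIso (cokernel.map (pullback.fst π φ) φ (pullback.snd π φ) π sq.w) ≪≫ e)

theorem HasFilt.exists_chain {A X : C} (h : HasFilt A X) :
    ∃ (n : ℕ) (G : ℕ → C) (φ : ∀ i, G i ⟶ G (i + 1)), IsZero (G 0) ∧ Nonempty (G n ≅ X) ∧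
      ∀ i, i < n → Mono (φ i) ∧ Nonempty (cokernel (φ i) ≅ A) := by
  induction h with
  | zero X hX => exact ⟨0, fun _ => X, fun _ => 𝟙 X, hX, ⟨Iso.refl X⟩, fun i hi => absurd hi (Nat.not_lt_zero i)⟩
  | @step X Y φ _ _ e ih =>
    obtain ⟨n, G, ψ, h0, ⟨a⟩, hG⟩ := ih
    let G' : ℕ → C := fun i => if i ≤ n then G i else Y
    have e0 : ∀ i, i ≤ n → G' i = G i := fun i hi => if_pos hi
    have e1 : ∀ i, ¬ i ≤ n → G' i = Y := fun i hi => if_neg hi
    let ψ' : ∀ i, G' i ⟶ G' (i + 1) := fun i =>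
      if h : i + 1 ≤ n then eqToHom (e0 i (by omega)) ≫ ψ i ≫ eqToHom (e0 _ h).symm
      else if hi : i ≤ n then
        eqToHom (e0 i hi) ≫ eqToHom (congrArg G (show i = n by omega)) ≫ a.hom ≫ φ ≫ eqToHom (e1 _ h).symm
      else eqToHom (e1 i hi) ≫ eqToHom (e1 _ h).symm
    refine ⟨n + 1, G', ψ', (e0 0 (Nat.zero_le n)).symm ▸ h0, ⟨eqToIso (e1 _ (by omega))⟩, fun i hi => ?_⟩
    by_cases h : i + 1 ≤ n
    · obtain ⟨hm, ⟨c⟩⟩ := hG i (by omega)
      have hψ : ψ' i = eqToHom (e0 i (by omega)) ≫ ψ i ≫ eqToHom (e0 _ h).symm := dif_pos h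
      rw [hψ]
      exact ⟨inferInstance, ⟨cokernelEpiComp _ _ ≪≫ cokernelCompIsIso _ _ ≪≫ c⟩⟩
    · have hin : i = n := by omega
      subst hin
      have hψ : ψ' i = eqToHom (e0 i le_rfl) ≫ eqToHom (congrArg G rfl) ≫ a.hom ≫ φ ≫ eqToHom (e1 _ h).symm :=
        (dif_neg h).trans (dif_pos le_rfl)
      rw [hψ]
      exact ⟨inferInstance, ⟨cokernelEpiComp _ _ ≪≫ cokernelEpiComp _ _ ≪≫ cokernelEpiComp _ _ ≪≫
        cokernelCompIsIso _ _ ≪≫ e⟩⟩

end Groth.Agent.SylowFiltLib
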